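import Groth.Prelude.Def_GSzCSA
import Groth.Agent.Lib.Helper6.GalDescent
import Groth.Agent.Lib.Helper6.CycMod.Main
import Mathlib

set_option linter.unusedSectionVars false
set_option linter.unusedVariables false
set_option linter.unusedSimpArgs false
set_option autoImplicit false
set_option linter.style.haveILetI false
set_option maxHeartbeats 400000

/-!
# `H¹(G, (K ⊗ A)ˣ)` is trivial: twisted action and its fixed points
-/

namespace Groth.Agent.Lib.Helper6.H1Units

open scoped TensorProduct
open Groth.Agent.Helper6.GalDescent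

attribute [local instance] CSAGal.tensorAction GpH1.unitsAction

universe u v w

section Gen

variable {k : Type u} [Field k] {K : Type v} [Field K] [Algebra k K] [FiniteDimensional k K]
variable {V : Type w} [AddCommGroup V] [Module K V] [Module k V] [IsScalarTower k K V]

/-- Speiser: a `k`-subspace of fixed vectors has the same dimension as its `K`-span. -/
theorem finrank_span_of_fixed [IsGalois k K] [FiniteDimensional K V]
    {ρ : (K ≃ₐ[k] K) → V → V} (h : IsSemilinAction ρ)
    (N : Submodule k V) (hN : ∀ v ∈ N, ∀ σ, ρ σ v = v) :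
    Module.finrank K (Submodule.span K (N : Set V)) = Module.finrank k N := by
  haveI : FiniteDimensional k V := Module.Finite.trans K V
  let b := Module.finBasis k N
  have hli : LinearIndependent K (fun i => ((b i : N) : V)) := by
    apply h.linearIndependent_of_fixed
    · intro i σ
      exact hN _ (b i).2 σ
    · exact b.linearIndependent.map' N.subtype (Submodule.ker_subtype N)
  have h1 := finrank_span_eq_card hli
  have h2 : Submodule.span K (N : Set V) = Submodule.span K (Set.range fun i => ((b i : N) : V)) := by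
    have h3 : Submodule.span k (Set.range fun i => ((b i : N) : V)) = N := by
      have : (Set.range fun i => ((b i : N) : V)) = N.subtype '' Set.range b := by
        rw [← Set.range_comp]; rfl
      rw [this, ← Submodule.map_span, b.span_eq, Submodule.map_top, Submodule.range_subtype]
    conv_lhs => rw [← h3]
    exact Submodule.span_span_of_tower k K _
  rw [h2, h1]
  simp

end Gen

section Tensor

variable {k : Type u} [Field k] {K : Type v} [Field K] [Algebra k K]
  {A : Type w} [Ring A] [Algebra k A]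

theorem gal_smul_tmul (σ : K ≃ₐ[k] K) (x : K) (a : A) :
    σ • (x ⊗ₜ[k] a) = (σ x) ⊗ₜ[k] a := by
  rw [TensorProduct.smul_tmul']
  rfl

theorem gal_smul_smul (σ : K ≃ₐ[k] K) (x : K) (v : K ⊗[k] A) :
    σ • (x • v) = σ x • (σ • v) := by
  induction v using TensorProduct.induction_on with
  | zero => simp
  | tmul y a =>
    rw [TensorProduct.smul_tmul', gal_smul_tmul, gal_smul_tmul, TensorProduct.smul_tmul',
      smul_eq_mul, smul_eq_mul, map_mul]
  | add v w hv hw => rw [smul_add, smul_add, hv, hw, smul_add, smul_add]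

theorem gal_smul_one_tmul (σ : K ≃ₐ[k] K) (a : A) :
    σ • ((1 : K) ⊗ₜ[k] a) = (1 : K) ⊗ₜ[k] a := by
  rw [gal_smul_tmul, map_one]

/-- The left `A`-module structure on `K ⊗ A` by left multiplication with `1 ⊗ a`. -/
@[reducible] noncomputable def modA : Module A (K ⊗[k] A) :=
  Module.compHom (K ⊗[k] A) (Algebra.TensorProduct.includeRight : A →ₐ[k] K ⊗[k] A).toRingHom

attribute [local instance] modA

theorem modA_smul (a : A) (v : K ⊗[k] A) : a • v = ((1 : K) ⊗ₜ[k] a) * v := rfl

instance modA_isScalarTower : IsScalarTower k A (K ⊗[k] A) := by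
  constructor
  intro c a v
  rw [modA_smul, modA_smul, TensorProduct.tmul_smul, smul_mul_assoc]

instance modA_smulCommClass : SMulCommClass K A (K ⊗[k] A) := by
  constructor
  intro x a v
  rw [modA_smul, modA_smul, mul_smul_comm]

/-- the twisted action attached to a cocycle -/
noncomputable def tw (a : (K ≃ₐ[k] K) → (K ⊗[k] A)ˣ) (σ : K ≃ₐ[k] K) (v : K ⊗[k] A) : K ⊗[k] A :=
  σ • v * (((a σ)⁻¹ : (K ⊗[k] A)ˣ) : K ⊗[k] A)

theorem cocycle_one {a : (K ≃ₐ[k] K) → (K ⊗[k] A)ˣ} (ha : GpH1.IsOneCocycle a) : a 1 = 1 := by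
  have h := ha 1 1
  rw [one_smul, mul_one] at h
  exact (mul_eq_left.mp h.symm)

theorem units_smul_inv_val (σ : K ≃ₐ[k] K) (u : (K ⊗[k] A)ˣ) :
    (((σ • u)⁻¹ : (K ⊗[k] A)ˣ) : K ⊗[k] A) = σ • ((u⁻¹ : (K ⊗[k] A)ˣ) : K ⊗[k] A) := rfl

theorem units_smul_val (σ : K ≃ₐ[k] K) (u : (K ⊗[k] A)ˣ) :
    ((σ • u : (K ⊗[k] A)ˣ) : K ⊗[k] A) = σ • (u : K ⊗[k] A) := rfl

variable [FiniteDimensional k K]

theorem tw_isSemilin {a : (K ≃ₐ[k] K) → (K ⊗[k] A)ˣ} (ha : GpH1.IsOneCocycle a) :
    IsSemilinAction (k := k) (K := K) (V := K ⊗[k] A) (tw a) where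
  add σ v w := by
    unfold tw
    rw [smul_add, add_mul]
  smul σ x v := by
    unfold tw
    rw [gal_smul_smul, smul_mul_assoc]
  one v := by
    unfold tw
    rw [cocycle_one ha, one_smul, inv_one, Units.val_one, mul_one]
  mul σ τ v := by
    unfold tw
    rw [ha σ τ, mul_inv_rev, Units.val_mul, units_smul_inv_val, mul_smul, smul_mul', mul_assoc]

/-- The fixed points of the twisted action, as an `A`-submodule. -/
noncomputable def fixedSub (a : (K ≃ₐ[k] K) → (K ⊗[k] A)ˣ) : Submodule A (K ⊗[k] A) where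
  carrier := {v | ∀ σ, tw a σ v = v}
  add_mem' := by
    intro v w hv hw σ
    unfold tw at *
    rw [smul_add, add_mul, hv σ, hw σ]
  zero_mem' := by
    intro σ
    unfold tw
    rw [smul_zero, zero_mul]
  smul_mem' := by
    intro c v hv σ
    have := hv σ
    unfold tw at *
    rw [modA_smul, smul_mul', gal_smul_one_tmul, mul_assoc, this]

theorem mem_fixedSub (a : (K ≃ₐ[k] K) → (K ⊗[k] A)ˣ) (v : K ⊗[k] A) :
    v ∈ fixedSub a ↔ ∀ σ, tw a σ v = v := Iff.rfl

end Tensor

end Groth.Agent.Lib.Helper6.H1Units
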