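import Groth.Agent.Lib.Helper6.H1Units.Basic

set_option linter.unusedSectionVars false
set_option linter.unusedVariables false
set_option linter.unusedSimpArgs false
set_option autoImplicit false
set_option linter.style.haveILetI false
set_option maxHeartbeats 400000

/-!
# `H¹(G, (K ⊗ A)ˣ)` is trivial
-/

namespace Groth.Agent.Lib.Helper6.H1Units

open scoped TensorProduct
open Groth.Agent.Helper6.GalDescent Groth.Agent.Lib.Helper6.CycMod

attribute [local instance] CSAGal.tensorAction GpH1.unitsAction modA

universe u v w

section QuotDim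

variable {k : Type*} [Field k] {A : Type*} [Ring A] [Algebra k A]
  {M : Type*} [AddCommGroup M] [Module k M] [Module A M] [IsScalarTower k A M]
  [FiniteDimensional k M]

theorem finrank_quot_add (P : Submodule A M) :
    Module.finrank k (M ⧸ P) + Module.finrank k (P.restrictScalars k) = Module.finrank k M := by
  rw [← (Submodule.Quotient.restrictScalarsEquiv k P).finrank_eq]
  exact Submodule.finrank_quotient_add_finrank (P.restrictScalars k)

end QuotDim

variable {k : Type u} [Field k] {K : Type v} [Field K] [Algebra k K] [FiniteDimensional k K]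
  [IsGalois k K] {A : Type w} [Ring A] [Algebra k A] [FiniteDimensional k A]

variable {a : (K ≃ₐ[k] K) → (K ⊗[k] A)ˣ} (ha : GpH1.IsOneCocycle a)
include ha

theorem span_fixedSub : Submodule.span K ((fixedSub a : Submodule A (K ⊗[k] A)) : Set (K ⊗[k] A)) = ⊤ :=
  (tw_isSemilin ha).span_fixed

theorem finrank_fixedSub :
    Module.finrank k ((fixedSub a).restrictScalars k) = Module.finrank k A := by
  have h1 := finrank_span_of_fixed (k := k) (K := K) (tw_isSemilin ha)
    ((fixedSub a).restrictScalars k) (fun v hv σ => hv σ)
  have h2 : Submodule.span K (((fixedSub a).restrictScalars k : Submodule k (K ⊗[k] A)) : Set (K ⊗[k] A))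
      = ⊤ := span_fixedSub ha
  rw [h2, finrank_top, Module.finrank_baseChange] at h1
  exact h1.symm

/-- the base change of a two-sided ideal -/
noncomputable def idealBC (I : Ideal A) : Submodule K (K ⊗[k] A) :=
  LinearMap.range (LinearMap.baseChange K ((I.restrictScalars k).subtype))

omit ha in
theorem finrank_idealBC (I : Ideal A) :
    Module.finrank K (idealBC (k := k) (K := K) I) = Module.finrank k (I.restrictScalars k) := by
  unfold idealBC
  rw [LinearMap.finrank_range_of_inj, Module.finrank_baseChange]
  exact Module.Flat.lTensor_preserves_injective_linearMap (M := K)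
    ((I.restrictScalars k).subtype) (Submodule.subtype_injective _)

omit ha in
theorem one_tmul_mul_mem_idealBC (I : Ideal A) [I.IsTwoSided] (b : A) (hb : b ∈ I)
    (y : K ⊗[k] A) : ((1 : K) ⊗ₜ[k] b) * y ∈ idealBC (k := k) (K := K) I := by
  induction y using TensorProduct.induction_on with
  | zero => rw [mul_zero]; exact Submodule.zero_mem _
  | tmul x c =>
    rw [Algebra.TensorProduct.tmul_mul_tmul, one_mul]
    refine ⟨x ⊗ₜ[k] (⟨b * c, Ideal.mul_mem_right _ _ hb⟩ : I.restrictScalars k), ?_⟩
    rw [LinearMap.baseChange_tmul]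
    rfl
  | add y z hy hz => rw [mul_add]; exact Submodule.add_mem _ hy hz

theorem span_smul_fixedSub (I : Ideal A) [I.IsTwoSided] :
    Submodule.span K (((I • fixedSub a : Submodule A (K ⊗[k] A))) : Set (K ⊗[k] A))
      = idealBC (k := k) (K := K) I := by
  apply le_antisymm
  · rw [Submodule.span_le]
    intro v hv
    refine Submodule.smul_induction_on (p := fun v => v ∈ idealBC (k := k) (K := K) I) hv ?_ ?_
    · intro b hb y _
      rw [modA_smul]
      exact one_tmul_mul_mem_idealBC I b hb y
    · intro y z hy hz
      exact Submodule.add_mem _ hy hz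
  · unfold idealBC
    rw [LinearMap.range_le_iff_comap, eq_top_iff]
    intro t _
    rw [Submodule.mem_comap]
    clear * - ha
    induction t using TensorProduct.induction_on with
    | zero => rw [map_zero]; exact Submodule.zero_mem _
    | tmul x b =>
      rw [LinearMap.baseChange_tmul]
      have key : ∀ v : K ⊗[k] A, (b : A) • v ∈
          Submodule.span K (((I • fixedSub a : Submodule A (K ⊗[k] A))) : Set (K ⊗[k] A)) := by
        intro v
        have hv : v ∈ Submodule.span K ((fixedSub a : Submodule A (K ⊗[k] A)) : Set (K ⊗[k] A)) := by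
          rw [span_fixedSub ha]; exact Submodule.mem_top
        induction hv using Submodule.span_induction with
        | mem v hv =>
          exact Submodule.subset_span (Submodule.smul_mem_smul b.2 hv)
        | zero => rw [smul_zero]; exact Submodule.zero_mem _
        | add v w _ _ hv hw => rw [smul_add]; exact Submodule.add_mem _ hv hw
        | smul c v _ hv =>
          rw [← smul_comm c (b : A) v]; exact Submodule.smul_mem _ _ hv
      have := key (x ⊗ₜ[k] (1 : A))
      rw [modA_smul, Algebra.TensorProduct.tmul_mul_tmul, one_mul, mul_one] at this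
      exact this
    | add t s ht hs => rw [map_add]; exact Submodule.add_mem _ ht hs

theorem finrank_smul_fixedSub (I : Ideal A) [I.IsTwoSided] :
    Module.finrank k ((I • fixedSub a : Submodule A (K ⊗[k] A)).restrictScalars k)
      = Module.finrank k (I.restrictScalars k) := by
  have h1 := finrank_span_of_fixed (k := k) (K := K) (tw_isSemilin ha)
    ((I • fixedSub a : Submodule A (K ⊗[k] A)).restrictScalars k)
    (fun v hv σ => (Submodule.smul_le_right (I := I) (N := fixedSub a) hv) σ)
  have h2 : Submodule.span K ((((I • fixedSub a : Submodule A (K ⊗[k] A)).restrictScalars k :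
      Submodule k (K ⊗[k] A))) : Set (K ⊗[k] A)) = idealBC (k := k) (K := K) I :=
    span_smul_fixedSub ha I
  rw [h2, finrank_idealBC] at h1
  exact h1.symm

theorem finrank_fixedSub' :
    Module.finrank k (fixedSub a) = Module.finrank k A := by
  rw [← finrank_fixedSub ha]
  rfl

theorem hdim (I : Ideal A) [I.IsTwoSided] :
    Module.finrank k ((fixedSub a) ⧸ (I • ⊤ : Submodule A (fixedSub a)))
      = Module.finrank k (A ⧸ I) := by
  haveI : FiniteDimensional k (fixedSub a) :=
    Module.Finite.of_injective ((fixedSub a).subtype.restrictScalars k)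
      (Submodule.subtype_injective _)
  have h1 := finrank_quot_add (k := k) (A := A) (M := fixedSub a)
    (I • ⊤ : Submodule A (fixedSub a))
  have h2 := finrank_quot_add (k := k) (A := A) (M := A) I
  have h3 := finrank_fixedSub' ha
  have h4 : Module.finrank k ((I • ⊤ : Submodule A (fixedSub a)).restrictScalars k)
      = Module.finrank k (I.restrictScalars k) := by
    rw [← finrank_smul_fixedSub ha I]
    have hf : Function.Injective ((fixedSub a).subtype.restrictScalars k) :=
      Submodule.subtype_injective _
    have e := Submodule.equivMapOfInjective ((fixedSub a).subtype.restrictScalars k) hf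
      ((I • ⊤ : Submodule A (fixedSub a)).restrictScalars k)
    rw [e.finrank_eq]
    have hmap : ((I • ⊤ : Submodule A (fixedSub a)).restrictScalars k).map
        ((fixedSub a).subtype.restrictScalars k)
        = (I • fixedSub a : Submodule A (K ⊗[k] A)).restrictScalars k := by
      have h5 : (I • ⊤ : Submodule A (fixedSub a)).map (fixedSub a).subtype = I • fixedSub a := by
        rw [Submodule.map_smul'', Submodule.map_top, Submodule.range_subtype]
      ext v
      rw [Submodule.restrictScalars_mem, ← h5]
      simp only [Submodule.mem_map, Submodule.restrictScalars_mem, LinearMap.coe_restrictScalars]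
    rw [hmap]
  omega

/-- A generator of the fixed module is a unit of `K ⊗ A`. -/
theorem exists_unit_fixed : ∃ c : (K ⊗[k] A)ˣ, (c : K ⊗[k] A) ∈ fixedSub a := by
  haveI : FiniteDimensional k (fixedSub a) :=
    Module.Finite.of_injective ((fixedSub a).subtype.restrictScalars k)
      (Submodule.subtype_injective _)
  obtain ⟨w, hw⟩ := exists_generator (k := k) (A := A) (W := fixedSub a)
    (fun I _ _ => hdim ha I)
  -- every element of V is a left multiple of w
  have key : ∀ v : K ⊗[k] A, ∃ u : K ⊗[k] A, u * (w : K ⊗[k] A) = v := by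
    intro v
    have hv : v ∈ Submodule.span K ((fixedSub a : Submodule A (K ⊗[k] A)) : Set (K ⊗[k] A)) := by
      rw [span_fixedSub ha]; exact Submodule.mem_top
    induction hv using Submodule.span_induction with
    | mem v hv =>
      have : (⟨v, hv⟩ : fixedSub a) ∈ Submodule.span A {w} := by rw [hw]; exact Submodule.mem_top
      obtain ⟨b, hb⟩ := Submodule.mem_span_singleton.1 this
      refine ⟨(1 : K) ⊗ₜ[k] b, ?_⟩
      have := congrArg Subtype.val hb
      rw [← modA_smul]
      exact this
    | zero => exact ⟨0, zero_mul _⟩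
    | add v z _ _ hv hz =>
      obtain ⟨u₁, h₁⟩ := hv
      obtain ⟨u₂, h₂⟩ := hz
      exact ⟨u₁ + u₂, by rw [add_mul, h₁, h₂]⟩
    | smul c v _ hv =>
      obtain ⟨u, h₁⟩ := hv
      exact ⟨c • u, by rw [smul_mul_assoc, h₁]⟩
  obtain ⟨u, hu⟩ := key 1
  haveI : IsArtinianRing (K ⊗[k] A) := IsArtinianRing.of_finite K (K ⊗[k] A)
  have hu' : (w : K ⊗[k] A) * u = 1 := mul_eq_one_symm hu
  exact ⟨⟨(w : K ⊗[k] A), u, hu', hu⟩, w.2⟩

omit ha in
theorem h1_trivial (k : Type u) [Field k] (K : Type v) [Field K] [Algebra k K]
    [FiniteDimensional k K] [IsGalois k K] (A : Type w) [Ring A] [Algebra k A]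
    [FiniteDimensional k A] :
    GpH1.H1.IsTrivial (K ≃ₐ[k] K) (K ⊗[k] A)ˣ := by
  intro x
  obtain ⟨a, rfl⟩ := GpH1.OneCocycle.cl_surjective x
  show a.cl = (GpH1.OneCocycle.trivial : GpH1.OneCocycle (K ≃ₐ[k] K) (K ⊗[k] A)ˣ).cl
  rw [GpH1.OneCocycle.cl_eq_cl_iff]
  obtain ⟨c, hc⟩ := exists_unit_fixed (a := a.1) a.2
  refine ⟨c, fun σ => ?_⟩
  have h := hc σ
  unfold tw at h
  -- h : σ • c * (a σ)⁻¹ = c
  show a.1 σ = c⁻¹ * 1 * σ • c
  rw [mul_one]
  apply Units.ext
  rw [Units.val_mul, units_smul_val]
  have h2 : σ • (c : K ⊗[k] A) = (c : K ⊗[k] A) * ((a.1 σ : (K ⊗[k] A)ˣ) : K ⊗[k] A) := by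
    conv_rhs => rw [← h]
    rw [mul_assoc, Units.inv_mul, mul_one]
  rw [h2, ← mul_assoc, Units.inv_mul, one_mul]

end Groth.Agent.Lib.Helper6.H1Units
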